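import Groth.Agent.EtaleCrit.Basic
import Mathlib.RingTheory.Etale.Locus
import Mathlib.RingTheory.Ideal.KrullsHeightTheorem
import Mathlib.RingTheory.LocalRing.Module
import Mathlib.RingTheory.Flat.Basic
import Mathlib.RingTheory.RingHom.Flat
import Mathlib.RingTheory.Smooth.Flat

/-! Parameters and differentials at an etale point over a polynomial ring. -/

set_option autoImplicit false
universe u

namespace Groth.Agent.EtaleCrit

open TensorProduct IsLocalRing

/-- Generators of the maximal ideal together with generators of the differentials of the residue field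
generate the differentials. -/
theorem span_D_eq_top (k T : Type u) [CommRing k] [CommRing T] [IsLocalRing T] [Algebra k T]
    [Algebra.EssFiniteType k T] {ι : Type*} (g : ι → T) (s : Set ι) (s' : Set ι)
    (hm : Ideal.span (g '' s) = maximalIdeal T)
    (hd : Submodule.span (ResidueField T) ((fun i => KaehlerDifferential.D k (ResidueField T) (residue T (g i))) '' s') = ⊤) :
    Submodule.span T (Set.range fun i => KaehlerDifferential.D k T (g i)) = ⊤ := by
  rw [← IsLocalRing.map_tensorProduct_mk_eq_top]
  let K := ResidueField T
  let W := Submodule.span T (Set.range fun i => KaehlerDifferential.D k T (g i))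
  let N := W.map (TensorProduct.mk T K Ω[T⁄k] 1)
  have hsmul : ∀ (c : K) (x), x ∈ N → c • x ∈ N := fun c x hx => by
    obtain ⟨a, rfl⟩ := IsLocalRing.residue_surjective c
    have e : residue T a • x = a • x := (algebraMap_smul K a x)
    exact e ▸ N.smul_mem a hx
  let N' : Submodule K (K ⊗[T] Ω[T⁄k]) := { N.toAddSubmonoid with smul_mem' := hsmul }
  have hker : LinearMap.ker (KaehlerDifferential.mapBaseChange k T K) ≤ N' := by
    intro x hx
    obtain ⟨y, rfl⟩ := (KaehlerDifferential.exact_kerCotangentToTensor_mapBaseChange k T K IsLocalRing.residue_surjective x).1 hx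
    obtain ⟨⟨y, hy⟩, rfl⟩ := Ideal.toCotangent_surjective _ y
    rw [KaehlerDifferential.kerCotangentToTensor_toCotangent]
    have hy' : y ∈ Ideal.span (g '' s) := by
      rw [hm]
      exact (IsLocalRing.residue_eq_zero_iff y).1 hy
    have key : ∀ z ∈ Ideal.span (g '' s), residue T z = 0 ∧ (1 : K) ⊗ₜ[T] KaehlerDifferential.D k T z ∈ N := by
      intro z hz
      induction hz using Submodule.span_induction with
      | mem z hz =>
        obtain ⟨i, hi, rfl⟩ := hz
        refine ⟨(IsLocalRing.residue_eq_zero_iff _).2 (hm ▸ Ideal.subset_span ⟨i, hi, rfl⟩), ?_⟩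
        exact ⟨_, Submodule.subset_span ⟨i, rfl⟩, rfl⟩
      | zero => simp
      | add a b _ _ ha hb =>
        exact ⟨by rw [map_add, ha.1, hb.1, add_zero], by rw [map_add, tmul_add]; exact add_mem ha.2 hb.2⟩
      | smul a z _ hz =>
        refine ⟨by rw [smul_eq_mul, map_mul, hz.1, mul_zero], ?_⟩
        rw [smul_eq_mul, Derivation.leibniz, tmul_add, tmul_smul]
        refine add_mem (N.smul_mem a hz.2) ?_
        rw [← smul_tmul, Algebra.smul_def, mul_one, IsLocalRing.ResidueField.algebraMap_eq, hz.1, zero_tmul]
        exact zero_mem _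
    exact (key y hy').2
  have hsur : N'.map (KaehlerDifferential.mapBaseChange k T K) = ⊤ := by
    rw [eq_top_iff, ← hd, Submodule.span_le]
    rintro _ ⟨i, -, rfl⟩
    refine ⟨(1 : K) ⊗ₜ[T] KaehlerDifferential.D k T (g i), ⟨_, Submodule.subset_span ⟨i, rfl⟩, rfl⟩, ?_⟩
    show KaehlerDifferential.mapBaseChange k T K _ = _
    rw [KaehlerDifferential.mapBaseChange_tmul, one_smul, KaehlerDifferential.map_D]
    rfl
  refine eq_top_iff.2 fun x _ => ?_
  obtain ⟨y, hy, hyx⟩ : KaehlerDifferential.mapBaseChange k T K x ∈
      N'.map (KaehlerDifferential.mapBaseChange k T K) :=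
    hsur ▸ Submodule.mem_top
  have h2 : x - y ∈ LinearMap.ker (KaehlerDifferential.mapBaseChange k T K) := by
    rw [LinearMap.mem_ker, map_sub, sub_eq_zero]; exact hyx.symm
  have := N.add_mem (hker h2) hy
  rwa [sub_add_cancel] at this

/-- Spanning differentials span the differentials of the residue field. -/
theorem span_D_residue (k T : Type u) [CommRing k] [CommRing T] [IsLocalRing T] [Algebra k T]
    {ι : Type*} (g : ι → T) (s : Set ι) (hg : ∀ i, i ∉ s → g i ∈ maximalIdeal T)
    (h : Submodule.span T (Set.range fun i => KaehlerDifferential.D k T (g i)) = ⊤) :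
    Submodule.span (ResidueField T) ((fun i => KaehlerDifferential.D k (ResidueField T) (residue T (g i))) '' s) = ⊤ := by
  let K := ResidueField T
  let V := Submodule.span K ((fun i => KaehlerDifferential.D k K (residue T (g i))) '' s)
  have hW : Submodule.span T (Set.range fun i => KaehlerDifferential.D k T (g i)) ≤
      (V.restrictScalars T).comap (KaehlerDifferential.map k k T K) := by
    rw [Submodule.span_le]
    rintro _ ⟨i, rfl⟩
    show KaehlerDifferential.map k k T K _ ∈ V
    rw [KaehlerDifferential.map_D, IsLocalRing.ResidueField.algebraMap_eq]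
    by_cases hi : i ∈ s
    · exact Submodule.subset_span ⟨i, hi, rfl⟩
    · rw [(IsLocalRing.residue_eq_zero_iff _).2 (hg i hi), map_zero]
      exact zero_mem _
  refine eq_top_iff.2 fun x _ => ?_
  obtain ⟨y, rfl⟩ := KaehlerDifferential.map_surjective_of_surjective k k (A := T) (B := K) IsLocalRing.residue_surjective x
  exact hW (h ▸ Submodule.mem_top)

section Parameters

variable (k : Type u) [Field k] (n : ℕ)

local notation "P" => MvPolynomial (Fin n) k

/-- The ideal of the first coordinates is prime. -/
theorem isPrime_span_X (i : ℕ) :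
    (Ideal.span ((MvPolynomial.X : Fin n → P) '' {t | (t : ℕ) < i})).IsPrime := by
  classical
  let φ : P →ₐ[k] P := MvPolynomial.aeval fun t : Fin n => if (t : ℕ) < i then 0 else MvPolynomial.X t
  have hk : Ideal.span ((MvPolynomial.X : Fin n → P) '' {t | (t : ℕ) < i}) = RingHom.ker φ.toRingHom := by
    refine le_antisymm (Ideal.span_le.2 ?_) fun f hf => ?_
    · rintro _ ⟨t, ht, rfl⟩
      show φ (MvPolynomial.X t) = 0
      simp [φ, show (t : ℕ) < i from ht]
    · have key : ∀ g : P, g - φ g ∈ Ideal.span ((MvPolynomial.X : Fin n → P) '' {t | (t : ℕ) < i}) := by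
        intro g
        induction g using MvPolynomial.induction_on with
        | C a => simp [φ]
        | add a b ha hb =>
          have e : a + b - φ (a + b) = (a - φ a) + (b - φ b) := by rw [map_add]; ring
          exact e ▸ add_mem ha hb
        | mul_X a t ha =>
          have e : a * MvPolynomial.X t - φ (a * MvPolynomial.X t) =
              (a - φ a) * MvPolynomial.X t + φ a * (MvPolynomial.X t - φ (MvPolynomial.X t)) := by
            rw [map_mul]; ring
          refine e ▸ add_mem (Ideal.mul_mem_right _ _ ha) (Ideal.mul_mem_left _ _ ?_)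
          by_cases ht : (t : ℕ) < i
          · simp only [φ, MvPolynomial.aeval_X, ht, if_true, sub_zero]
            exact Ideal.subset_span ⟨t, ht, rfl⟩
          · simp [φ, ht]
      simpa [show φ f = 0 from hf] using key f
  rw [hk]
  exact RingHom.ker_isPrime _

theorem le_height_span_X (i : ℕ) (hi : i ≤ n) :
    (i : ℕ∞) ≤ (Ideal.span ((MvPolynomial.X : Fin n → P) '' {t | (t : ℕ) < i})).height := by
  classical
  induction i with
  | zero => simp
  | succ i ih =>
    haveI := isPrime_span_X k n i
    haveI := isPrime_span_X k n (i + 1)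
    have hlt : Ideal.span ((MvPolynomial.X : Fin n → P) '' {t | (t : ℕ) < i}) <
        Ideal.span ((MvPolynomial.X : Fin n → P) '' {t | (t : ℕ) < i + 1}) := by
      refine lt_of_le_not_ge (Ideal.span_mono (Set.image_mono fun t (ht : (t : ℕ) < i) => Nat.lt_succ_of_lt ht)) fun h => ?_
      have hX : (MvPolynomial.X ⟨i, hi⟩ : P) ∈ Ideal.span ((MvPolynomial.X : Fin n → P) '' {t | (t : ℕ) < i}) :=
        h (Ideal.subset_span ⟨⟨i, hi⟩, Nat.lt_succ_self i, rfl⟩)
      rw [MvPolynomial.mem_ideal_span_X_image] at hX
      obtain ⟨t, ht, htne⟩ := hX (Finsupp.single ⟨i, hi⟩ 1) (by simp [MvPolynomial.support_X])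
      rw [Finsupp.single_apply] at htne
      split_ifs at htne with h'
      · subst h'; exact lt_irrefl i ht
      · exact htne rfl
    have := Ideal.height_add_one_le_of_lt_of_isPrime hlt
    refine le_trans ?_ this
    push_cast
    exact add_le_add (ih (Nat.le_of_succ_le hi)) le_rfl

variable (A : Type u) [CommRing A] [Algebra k A] [Algebra (MvPolynomial (Fin n) k) A]
  [IsScalarTower k (MvPolynomial (Fin n) k) A] [Algebra.FiniteType k A]

/-- At an etale point of codimension `r` the first `r` coordinates generate the maximal ideal. -/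
theorem span_eq_maximal_of_etaleAt (r : ℕ) (p : Ideal A) [p.IsPrime]
    (hr : ringKrullDim (Localization.AtPrime p) ≤ (r : WithBot ℕ∞) ∨ n ≤ r)
    (hg : ∀ i : Fin n, (i : ℕ) < r → algebraMap P A (MvPolynomial.X i) ∈ p)
    [Algebra.IsEtaleAt P p] :
    Ideal.span ((fun i : Fin n => algebraMap P (Localization.AtPrime p) (MvPolynomial.X i)) '' {i : Fin n | (i : ℕ) < r}) =
      maximalIdeal (Localization.AtPrime p) := by
  haveI : IsNoetherianRing A := Algebra.FiniteType.isNoetherianRing k A
  haveI : Algebra.FiniteType P A := Algebra.FiniteType.of_restrictScalars_finiteType k P A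
  haveI : Algebra.FinitePresentation P A := Algebra.FinitePresentation.of_finiteType.1 inferInstance
  obtain ⟨f, hf, het⟩ := Algebra.exists_etale_of_isEtaleAt (R := P) p
  let T := Localization.AtPrime p
  haveI : Module.Flat P T := by
    letI := IsLocalization.localizationAlgebraOfSubmonoidLe (Localization.Away f) T
      (Submonoid.powers f) p.primeCompl (Submonoid.powers_le.mpr hf)
    haveI := IsLocalization.localization_isScalarTower_of_submonoid_le (Localization.Away f) T
      (Submonoid.powers f) p.primeCompl (Submonoid.powers_le.mpr hf)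
    haveI := IsLocalization.isLocalization_of_submonoid_le (Localization.Away f) T
      (Submonoid.powers f) p.primeCompl (Submonoid.powers_le.mpr hf)
    haveI : IsScalarTower P (Localization.Away f) T := IsScalarTower.of_algebraMap_eq fun r => by
      rw [IsScalarTower.algebraMap_apply P A T, IsScalarTower.algebraMap_apply P A (Localization.Away f),
        ← IsScalarTower.algebraMap_apply A (Localization.Away f)]
    haveI : Module.Flat (Localization.Away f) T := IsLocalization.flat T (p.primeCompl.map (algebraMap A (Localization.Away f)))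
    exact Module.Flat.trans P (Localization.Away f) T
  let q := p.under P
  haveI : (maximalIdeal T).LiesOver q := ⟨by
    show p.under P = (maximalIdeal T).under P
    rw [← Ideal.under_under (B := A) (maximalIdeal T)]
    exact congrArg (Ideal.under P) (IsLocalization.AtPrime.under_maximalIdeal T p).symm⟩
  haveI : IsNoetherianRing T := IsLocalization.isNoetherianRing p.primeCompl _ inferInstance
  have hqn : (q.height : WithBot ℕ∞) ≤ n := by
    refine Ideal.height_le_ringKrullDim_of_isPrime.trans ?_
    rw [MvPolynomial.ringKrullDim_of_isNoetherianRing, ringKrullDim_eq_zero_of_field]; simp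
  have hq : (q.height : WithBot ℕ∞) ≤ r := by
    rcases hr with hr | hr
    swap
    · exact hqn.trans (by exact_mod_cast hr)
    refine le_trans ?_ hr
    rw [← IsLocalRing.maximalIdeal_height_eq_ringKrullDim]
    exact WithBot.coe_le_coe.2 ((Ideal.height_eq_height_add_of_liesOver_of_hasGoingDown q (maximalIdeal T)).symm ▸ le_self_add)
  let J := Ideal.span ((MvPolynomial.X : Fin n → P) '' {t | (t : ℕ) < r})
  haveI : J.IsPrime := isPrime_span_X k n r
  have hJq : J ≤ q := Ideal.span_le.2 (by rintro _ ⟨i, hi, rfl⟩; exact hg i hi)
  have hJ : J = q := by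
    refine Ideal.eq_of_le_of_height_le J hJq ?_
    have hs : {t : Fin n | (t : ℕ) < r} = {t : Fin n | (t : ℕ) < min r n} := Set.ext fun t =>
      ⟨fun h => lt_min h t.2, fun h => lt_of_lt_of_le (show (t : ℕ) < min r n from h) (min_le_left _ _)⟩
    refine le_trans ?_ ((le_height_span_X k n (min r n) (min_le_right _ _)).trans (le_of_eq (by simp only [J]; rw [hs])))
    rcases le_total r n with h | h
    · rw [min_eq_left h]; exact_mod_cast hq
    · rw [min_eq_right h]; exact_mod_cast hqn
  haveI : p.LiesOver q := ⟨rfl⟩
  haveI : Algebra.IsUnramifiedAt P p := inferInstance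
  letI : Algebra (Localization.AtPrime q) (Localization.AtPrime p) :=
    (Localization.localRingHom q p (algebraMap P A) Ideal.LiesOver.over).toAlgebra
  haveI : Localization.AtPrime.IsLiesOverAlgebra q p := ⟨rfl⟩
  have hmax := ((Algebra.isUnramifiedAt_iff_map_eq P q p).1 inferInstance).2
  rw [← hmax, ← hJ, Ideal.map_span, ← Set.image_comp]
  rfl

end Parameters

end Groth.Agent.EtaleCrit
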